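import Cfsg.Agent.S0000
import Cfsg.Agent.S2215
import Cfsg.Agent.S1059
import Cfsg.Agent.S1068
import Cfsg.Agent.NotCT.Orders
import Cfsg.Agent.SmallSimple.S1000.PSLFacts
import Cfsg.Agent.J2Type.ExtCube

/-!
# Simple groups with nonabelian Sylow 3-subgroups of order 27 and order dividing `2^13·3^3·5·7·11²·13²`
(helper896, task for S5227)
-/

set_option autoImplicit false

namespace Cfsg.Agent.H896.Co1

open Cfsg Cfsg.Agent

theorem g2_num {r a n : ℕ} (hr : r.Prime) (ha : 1 ≤ a) (h2 : r = 2 → 1 < a)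
    (hn : n = (r ^ a) ^ 6 * ((r ^ a) ^ 2 - 1) * ((r ^ a) ^ 6 - 1)) (hd : n ∣ 2 ^ 13 * 3 ^ 3 * 5 * 7 * 11 ^ 2 * 13 ^ 2) :
    False := by
  have h1 : (r ^ a) ^ 6 ∣ 2 ^ 13 * 19324305 := by
    refine (Dvd.intro _ (by rw [hn, mul_assoc])).trans (hd.trans ?_)
    norm_num
  by_cases hr2 : r = 2
  · subst hr2
    have h3 : (2 ^ a) ^ 6 ∣ 2 ^ 13 := by
      refine Nat.Coprime.dvd_of_dvd_mul_right ?_ h1
      rw [← pow_mul]
      exact Nat.Coprime.pow_left _ (by norm_num)
    rw [← pow_mul, Nat.pow_dvd_pow_iff_le_right (by norm_num)] at h3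
    have h4 : a = 2 := by
      have := h2 rfl
      omega
    subst h4
    rw [hn] at hd
    norm_num at hd
  · have h3 : r ^ 6 ∣ 19324305 := by
      have h4 : r ^ 6 ∣ 2 ^ 13 * 19324305 := by
        refine dvd_trans ?_ h1
        rw [← pow_mul]
        exact pow_dvd_pow _ (by omega)
      refine Nat.Coprime.dvd_of_dvd_mul_left ?_ h4
      refine Nat.Coprime.pow_left _ (Nat.Coprime.pow_right _ ?_)
      exact (Nat.coprime_primes hr Nat.prime_two).2 hr2
    have h5 : r < 17 := by
      by_contra hc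
      push Not at hc
      have h6 := Nat.le_of_dvd (by norm_num) h3
      have h7 : 17 ^ 6 ≤ r ^ 6 := Nat.pow_le_pow_left hc 6
      omega
    have h6 := hr.two_le
    interval_cases r <;> omega

/-- **Task E1.** -/
theorem simple_list {K : Type*} [Group K] [Finite K] [IsSimpleGroup K] (hc : ¬ IsMulCommutative K) (T : Sylow 3 K)
    (h27 : Nat.card T = 27) (hna : ¬ ∀ x y : T, x * y = y * x) (hd : Nat.card K ∣ 2 ^ 13 * 3 ^ 3 * 5 * 7 * 11 ^ 2 * 13 ^ 2) :
    Nat.card K = 5616 ∨ Nat.card K = 6048 ∨ Nat.card K = 95040 := by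
  have h3 : Fact (Nat.Prime 3) := ⟨by norm_num⟩
  have hE : IsExtraspecial 3 ↥(T : Subgroup K) := by
    refine J2Type.ExtCube.isExtraspecial_of_card_cube (p := 3) (P := ↥(T : Subgroup K)) (by rw [h27]; norm_num) ?_
    push Not at hna
    exact hna
  have hK : IsCompositionKGroup K := fun H _ N _ hs _ => by
    have := hs
    exact S0000.result
  rcases S2215.result hc hK T hE (by rw [h27]; norm_num) with h | h | h | h | h | h | h | h | h
  · rcases h with ⟨⟨e⟩⟩ | ⟨_, F, _, _, hF, ⟨e⟩⟩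
    · left
      rw [Nat.card_congr e.toEquiv]
      exact SmallSimple.PSLFacts.card_psl_three_three (ZMod.card 3)
    · right; left
      rw [Nat.card_congr e.toEquiv]
      exact SmallSimple.PSLFacts.card_psu_three_three (by rw [hF]; norm_num)
  · exact absurd h.1 (by norm_num)
  · rcases h with ⟨_, ⟨F, _, _, hF, ⟨e⟩⟩ | ⟨F, _, _, r, a, hr, _, ha, _, h2, hF, ⟨e⟩⟩⟩
    · right; left
      rw [Nat.card_congr e.toEquiv]
      exact SmallSimple.PSLFacts.card_psu_three_three hF
    · exfalso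
      rw [Nat.card_congr e.toEquiv, S1059.result hF] at hd
      exact g2_num hr ha h2 rfl hd
  · exfalso
    rcases h with ⟨_, h | ⟨F, _, _, m, hm, _, hF, ⟨e⟩⟩⟩
    · rw [NotCT.Orders.tits h] at hd
      norm_num at hd
    · rw [Nat.card_congr e.toEquiv, S1068.result hF] at hd
      have h4 : 2 ^ 36 ∣ 2 ^ 13 * 3 ^ 3 * 5 * 7 * 11 ^ 2 * 13 ^ 2 := by
        refine dvd_trans ?_ hd
        refine ((((?_ : 2 ^ 36 ∣ (2 ^ (2 * m + 1)) ^ 12).mul_right _).mul_right _).mul_right _).mul_right _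
        rw [← pow_mul]
        exact pow_dvd_pow _ (by omega)
      norm_num at h4
  · rcases h with ⟨_, h | h | h | h | h | h⟩
    · right; right
      exact NotCT.Orders.m12 h
    · exfalso
      rw [NotCT.Orders.m24 h] at hd
      norm_num at hd
    · exfalso
      rw [NotCT.Orders.j2 h] at hd
      norm_num at hd
    · exfalso
      rw [NotCT.Orders.j4 h] at hd
      norm_num at hd
    · exfalso
      rw [NotCT.Orders.he h] at hd
      norm_num at hd
    · exfalso
      rw [NotCT.Orders.ru h] at hd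
      norm_num at hd
  · exact absurd h.1 (by norm_num)
  · exact absurd h.1 (by norm_num)
  · exact absurd h.1 (by norm_num)
  · exact absurd h.1 (by norm_num)

end Cfsg.Agent.H896.Co1
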